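import Groth.Prelude.Def_CAlgX
import Mathlib.RingTheory.TensorProduct.Maps
import Mathlib.RingTheory.Localization.Basic
import Mathlib.RingTheory.Ideal.Quotient.Nilpotent

/-!
# Adic formal smoothness: base change and localization
-/

set_option autoImplicit false
universe u

open TensorProduct

namespace GrothLib.AdicFSLoc

variable {R S : Type u} [CommRing R] [CommRing S] [Algebra R S] {n : Ideal S}

/-- Base change of adic formal smoothness. -/
theorem baseChange (h : CAlgX.IsAdicFormallySmooth R S n) (R' : Type u) [CommRing R'] [Algebra R R'] :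
    CAlgX.IsAdicFormallySmooth R' (R' ⊗[R] S)
      (n.map (Algebra.TensorProduct.includeRight : S →ₐ[R] R' ⊗[R] S)) := by
  intro C _ _ J hJ ψ hψ
  obtain ⟨t, ht⟩ := hψ
  letI : Algebra R C := Algebra.compHom C (algebraMap R R')
  haveI : IsScalarTower R R' C := IsScalarTower.of_algebraMap_eq fun _ => rfl
  obtain ⟨χ, hχ⟩ := h C J hJ ((ψ.restrictScalars R).comp Algebra.TensorProduct.includeRight)
    ⟨t, fun x hx => ht _ (by rw [← Ideal.map_pow]; exact Ideal.mem_map_of_mem _ hx)⟩
  refine ⟨Algebra.TensorProduct.lift (Algebra.ofId R' C) χ fun a b => mul_comm _ _, ?_⟩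
  refine AlgHom.ext fun z => ?_
  induction z using TensorProduct.induction_on with
  | zero => simp
  | add a b ha hb => simp only [map_add, ha, hb]
  | tmul r s =>
      have h1 : Ideal.Quotient.mk J (χ s) = ψ (1 ⊗ₜ s) := AlgHom.congr_fun hχ s
      rw [show (r : R') ⊗ₜ[R] s = r • (1 ⊗ₜ s) by rw [smul_tmul', smul_eq_mul, mul_one], map_smul, map_smul,
        AlgHom.comp_apply, Algebra.TensorProduct.lift_tmul, map_one, one_mul]
      show r • Ideal.Quotient.mk J (χ s) = _
      rw [h1]

/-- Localization of adic formal smoothness. -/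
theorem localization (h : CAlgX.IsAdicFormallySmooth R S n) (M : Submonoid S) (S' : Type u) [CommRing S']
    [Algebra R S'] [Algebra S S'] [IsScalarTower R S S'] [IsLocalization M S'] {n' : Ideal S'}
    (hn : n.map (algebraMap S S') ≤ n') : CAlgX.IsAdicFormallySmooth R S' n' := by
  intro C _ _ J hJ ψ hψ
  obtain ⟨t, ht⟩ := hψ
  obtain ⟨χ, hχ⟩ := h C J hJ (ψ.comp (IsScalarTower.toAlgHom R S S'))
    ⟨t, fun x hx => ht _ (Ideal.pow_right_mono hn t (by rw [← Ideal.map_pow]; exact Ideal.mem_map_of_mem _ hx))⟩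
  have hχ' : ∀ s, Ideal.Quotient.mk J (χ s) = ψ (algebraMap S S' s) := fun s => AlgHom.congr_fun hχ s
  have hu : ∀ m : M, IsUnit (χ m) := fun m => by
    have hJn : IsNilpotent J := ⟨2, hJ⟩
    rw [← hJn.isUnit_quotient_mk_iff, hχ']
    exact (IsLocalization.map_units S' m).map ψ
  refine ⟨IsLocalization.liftAlgHom hu, ?_⟩
  refine AlgHom.coe_ringHom_injective (IsLocalization.ringHom_ext M (RingHom.ext fun s => ?_))
  show Ideal.Quotient.mk J (IsLocalization.lift _ (algebraMap S S' s)) = _
  rw [IsLocalization.lift_eq]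
  exact hχ' s

/-- A coarser adic topology is harder. -/
theorem mono {n' : Ideal S} (h : CAlgX.IsAdicFormallySmooth R S n) (hle : n ≤ n') :
    CAlgX.IsAdicFormallySmooth R S n' := fun C _ _ J hJ ψ ⟨t, ht⟩ =>
  h C J hJ ψ ⟨t, fun x hx => ht x (Ideal.pow_right_mono hle t hx)⟩

end GrothLib.AdicFSLoc
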