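import Groth.Agent.Lib.PBasis.Basic
import Groth.Agent.Lib.PBasis.Field
import Groth.Agent.Lib.SepField.Smooth
import Groth.Agent.Lib.SymGr.Smooth
import Groth.Agent.Lib.Dim.Ring
import Mathlib.RingTheory.RegularLocalRing.Defs
import Mathlib.RingTheory.AdjoinRoot
import Mathlib.FieldTheory.KummerPolynomial
import Mathlib.FieldTheory.Finite.Basic

/-!
# Regularity after adjoining `p`-th roots and differentials

If `A` is a local algebra over a field `k` of characteristic `p` whose base changes to the extensions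
`k'` with `k' ^ p ⊆ k ^ p (x)` are regular, then the images of `p`-independent `x` in
`A` have independent differentials modulo the maximal ideal.
-/

set_option autoImplicit false
set_option linter.style.haveILetI false
universe u

open IsLocalRing TensorProduct Polynomial
open KaehlerDifferential (D)

namespace GrothLib.AdicFSLoc

open GrothLib.PBasis

variable (p : ℕ) [hp : Fact p.Prime]

/-- An element with zero differential is a `p`-th power. -/
theorem exists_pow_eq_of_D_eq_zero (K : Type u) [Field K] [CharP K p] {x : K} (hx : D ℤ K x = 0) :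
    ∃ y, y ^ p = x := by
  let k0 := GrothLib.SepField.PrimeFld.{u} p
  letI : Algebra k0 K := ((ZMod.castHom (dvd_refl p) K).comp ULift.ringEquiv.toRingHom).toAlgebra
  have hx0 : D k0 K x = 0 := by
    have := congrArg (KaehlerDifferential.map ℤ k0 K K) hx
    rwa [KaehlerDifferential.map_D, map_zero] at this
  have hmem : x ∈ genField p k0 (∅ : Set K) := by
    by_contra hne
    have h3 : EGA41.IsPIndependent p k0 (fun _ : PUnit.{u+1} => x) := by
      rw [isPIndependent_iff]
      intro a
      rwa [show (fun _ : PUnit.{u+1} => x) '' {b | b ≠ a} = ∅ by rw [Set.image_eq_empty]; ext b; simp]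
    exact ((isPIndependent_iff_linearIndependent _).1 h3).ne_zero PUnit.unit hx0
  clear hx hx0
  induction hmem using IntermediateField.adjoin_induction with
  | mem y hy =>
    rcases hy with ⟨w, rfl⟩ | hy
    · exact ⟨w, rfl⟩
    · exact absurd hy (Set.notMem_empty y)
  | algebraMap r =>
    exact ⟨algebraMap k0 K r, by rw [← map_pow]; exact congrArg _ (ULift.ext _ _ (ZMod.pow_card (p := p) _))⟩
  | add _ _ _ _ h1 h2 =>
    obtain ⟨y, rfl⟩ := h1
    obtain ⟨z, rfl⟩ := h2
    exact ⟨y + z, add_pow_char y z p⟩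
  | inv _ _ h1 =>
    obtain ⟨y, rfl⟩ := h1
    exact ⟨y⁻¹, inv_pow y p⟩
  | mul _ _ _ _ h1 h2 =>
    obtain ⟨y, rfl⟩ := h1
    obtain ⟨z, rfl⟩ := h2
    exact ⟨y * z, mul_pow y z p⟩

/-- A derivation into the residue field with value `1` at `a`, unless `a` is a `p`-th power modulo `m²`. -/
theorem exists_derivation_or (A : Type u) [CommRing A] [IsLocalRing A] [CharP A p] (a : A) :
    (∃ δ : Derivation ℤ A (ResidueField A), δ a = 1) ∨ ∃ b, a - b ^ p ∈ maximalIdeal A ^ 2 := by
  let K := ResidueField A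
  haveI : CharP K p := (CharP.charP_iff_prime_eq_zero hp.out).2 (by
    rw [← map_natCast (residue A), CharP.cast_eq_zero, map_zero])
  by_cases hres : D ℤ K (residue A a) = 0
  · obtain ⟨y, hy⟩ := exists_pow_eq_of_D_eq_zero p K hres
    obtain ⟨b, rfl⟩ := residue_surjective y
    have hz : a - b ^ p ∈ maximalIdeal A := by
      rw [← residue_eq_zero_iff, map_sub, map_pow, hy, sub_self]
    by_cases hz2 : a - b ^ p ∈ maximalIdeal A ^ 2
    · exact Or.inr ⟨b, hz2⟩
    left
    let k0 := GrothLib.SepField.PrimeFld.{u} p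
    letI : Algebra k0 A := ((ZMod.castHom (dvd_refl p) A).comp ULift.ringEquiv.toRingHom).toAlgebra
    letI := Ideal.Quotient.field (maximalIdeal A)
    haveI : CharP k0 p := charP_of_injective_ringHom
      (f := (ULift.ringEquiv.symm : ZMod p ≃+* k0).toRingHom) ULift.ringEquiv.symm.injective p
    haveI : CharP (A ⧸ maximalIdeal A) p := ‹CharP K p›
    haveI : PerfectRing k0 p := PerfectRing.ofFiniteOfIsReduced p _
    haveI : Algebra.FormallySmooth k0 (A ⧸ maximalIdeal A) := GrothLib.SepField.formallySmooth_perfect p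
    obtain ⟨δ, hδ⟩ := GrothLib.SymGr.exists_retraction_derivation (A := k0) (maximalIdeal A)
    have hne : (maximalIdeal A).toCotangent ⟨_, hz⟩ ≠ 0 := fun h =>
      hz2 (((maximalIdeal A).toCotangent_eq_zero _).1 h)
    obtain ⟨f, hf⟩ := Module.Projective.exists_dual_ne_zero (A ⧸ maximalIdeal A) hne
    let f' : (maximalIdeal A).Cotangent →ₗ[A] K :=
      ((f ((maximalIdeal A).toCotangent ⟨_, hz⟩))⁻¹ • f).restrictScalars A
    let δ' : Derivation k0 A K := f'.compDer δ
    refine ⟨δ'.restrictScalars ℤ, ?_⟩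
    show δ' a = 1
    have h1 : δ' a = δ' (a - b ^ p) + δ' (b ^ p) := by rw [← map_add, sub_add_cancel]
    rw [h1, Derivation.leibniz_pow, ← Nat.cast_smul_eq_nsmul A, CharP.cast_eq_zero, zero_smul, add_zero]
    show f' (δ (a - b ^ p)) = 1
    rw [hδ ⟨_, hz⟩]
    exact inv_mul_cancel₀ hf
  · left
    obtain ⟨φ, hφ⟩ := Module.Projective.exists_dual_ne_zero K hres
    let f : A →+ K := AddMonoidHom.mk' (fun b => (φ (D ℤ K (residue A a)))⁻¹ * φ (D ℤ K (residue A b)))
      (fun b c => by simp [mul_add])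
    refine ⟨Derivation.mk' f.toIntLinearMap (fun b c => ?_), ?_⟩
    · show f (b * c) = residue A b * f c + residue A c * f b
      show _ * φ (D ℤ K (residue A (b * c))) = residue A b * (_ * _) + residue A c * (_ * _)
      simp only [map_mul, Derivation.leibniz, map_add, map_smul, smul_eq_mul]
      ring
    · exact inv_mul_cancel₀ hφ

omit hp in
/-- Inverting elements of a square-zero extension. -/
theorem isUnit_sqExt {B L : Type*} [CommRing B] [AddCommGroup L] [Module B L] {z : SqExt B L}
    (h : IsUnit z.fst) : IsUnit z := by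
  obtain ⟨v, hv⟩ := h.exists_right_inv
  refine IsUnit.of_mul_eq_one (SqExt.mk v (-(v • v • z.snd))) ?_
  ext
  · simpa using hv
  · simp only [SqExt.snd_mul, SqExt.snd_mk, SqExt.snd_one, SqExt.fst_mk, smul_neg, smul_smul]
    rw [← mul_assoc, hv, one_mul, neg_add_cancel]

/-- Regularity of `k(x^(1/p)) ⊗ A` forbids `x` to be a `p`-th power modulo `m²`. -/
theorem false_of_sub_pow_mem_sq {k A : Type u} [Field k] [CharP k p] [CommRing A] [IsRegularLocalRing A]
    [Algebra k A] (x : k) (hx : Irreducible (X ^ p - C x : k[X])) {b : A}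
    (hb : algebraMap k A x - b ^ p ∈ maximalIdeal A ^ 2)
    (hreg : IsRegularRing (AdjoinRoot (X ^ p - C x : k[X]) ⊗[k] A)) : False := by
  classical
  set m := maximalIdeal A
  set K := ResidueField A
  haveI : Fact (Irreducible (X ^ p - C x : k[X])) := ⟨hx⟩
  let k' := AdjoinRoot (X ^ p - C x : k[X])
  let π : A ⧸ m ^ 2 →+* K := Ideal.Quotient.factor (Ideal.pow_le_self two_ne_zero)
  letI : Module (A ⧸ m ^ 2) K := π.toModule
  let E := SqExt (A ⧸ m ^ 2) K
  let inl : A →+* E := (SqExt.ofDer (RingHom.id (A ⧸ m ^ 2)) (0 : _ →+ K) (by simp)).comp (Ideal.Quotient.mk (m ^ 2))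
  letI : Algebra k E := (inl.comp (algebraMap k A)).toAlgebra
  have hp0 : (p : A) = 0 := by rw [← map_natCast (algebraMap k A), CharP.cast_eq_zero, map_zero]
  let root : E := SqExt.mk (Ideal.Quotient.mk (m ^ 2) b) 1
  have hroot : Polynomial.eval₂ (algebraMap k E) root (X ^ p - C x) = 0 := by
    rw [eval₂_sub, eval₂_pow, eval₂_X, eval₂_C, sub_eq_zero]
    refine SqExt.ext ?_ ?_
    · rw [SqExt.fst_pow]
      show (Ideal.Quotient.mk (m ^ 2) b) ^ p = Ideal.Quotient.mk (m ^ 2) (algebraMap k A x)
      rw [← map_pow, eq_comm, Ideal.Quotient.eq]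
      exact hb
    · rw [SqExt.snd_pow, ← Nat.cast_smul_eq_nsmul (A ⧸ m ^ 2), ← map_natCast (Ideal.Quotient.mk (m ^ 2)),
        hp0, map_zero, zero_smul]
      rfl
  let f1 : k' →ₐ[k] E :=
    { AdjoinRoot.lift (algebraMap k E) root hroot with
      commutes' := fun c => AdjoinRoot.lift_of hroot }
  let f2 : A →ₐ[k] E := { inl with commutes' := fun _ => rfl }
  let g : k' ⊗[k] A →ₐ[k] E := Algebra.TensorProduct.lift f1 f2 fun _ _ => mul_comm _ _
  have hπ : Function.Surjective π := Ideal.Quotient.factor_surjective _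
  let φ : E →+* K := π.comp SqExt.fstHom
  have hgs : Function.Surjective g := fun e => by
    obtain ⟨a, ha⟩ := Ideal.Quotient.mk_surjective e.fst
    obtain ⟨c, hc⟩ := residue_surjective e.snd
    refine ⟨1 ⊗ₜ a + (1 ⊗ₜ c) * (AdjoinRoot.root _ ⊗ₜ 1 - 1 ⊗ₜ b), ?_⟩
    simp only [g, map_add, map_mul, map_sub, Algebra.TensorProduct.lift_tmul, map_one, one_mul, mul_one]
    show inl a + inl c * (AdjoinRoot.lift (algebraMap k E) root hroot (AdjoinRoot.root _) - inl b) = e
    rw [AdjoinRoot.lift_root]
    have hroot' : root - inl b = SqExt.mk 0 1 := by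
      rw [sub_eq_iff_eq_add]
      refine SqExt.ext ?_ ?_
      · exact (zero_add _).symm
      · exact (add_zero _).symm
    rw [hroot']
    refine SqExt.ext ?_ ?_
    · show Ideal.Quotient.mk (m ^ 2) a + Ideal.Quotient.mk (m ^ 2) c * 0 = _
      rw [mul_zero, add_zero, ha]
    · show (0 : K) + (π (Ideal.Quotient.mk (m ^ 2) c) * 1 + π 0 * 0) = _
      rw [mul_one, mul_zero, add_zero, zero_add, ← hc]
      rfl
  have hφs : Function.Surjective φ := fun y => by
    obtain ⟨a, rfl⟩ := hπ y
    exact ⟨SqExt.mk a 0, rfl⟩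
  let P : Ideal (k' ⊗[k] A) := RingHom.ker (φ.comp g.toRingHom)
  haveI : P.IsMaximal := RingHom.ker_isMaximal_of_surjective _ (hφs.comp hgs)
  let BP := Localization.AtPrime P
  haveI : IsRegularLocalRing BP := IsRegularRing.isRegularLocalRing_localization P
  have hunit : ∀ s : P.primeCompl, IsUnit (g.toRingHom s) := fun s => by
    refine isUnit_sqExt ?_
    obtain ⟨a, ha⟩ := Ideal.Quotient.mk_surjective (g.toRingHom s : E).fst
    rw [← ha]
    refine IsUnit.map _ ?_
    rw [← residue_ne_zero_iff_isUnit]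
    intro h0
    refine s.2 ?_
    show φ (g.toRingHom s) = 0
    show π ((g.toRingHom s : E).fst) = 0
    rw [← ha]
    exact h0
  let gP : BP →+* E := IsLocalization.lift hunit
  have hgP : ∀ z, gP (algebraMap _ BP z) = g z := fun z => IsLocalization.lift_eq hunit z
  have hmax : ∀ z : BP, φ (gP z) = 0 ↔ z ∈ maximalIdeal BP := by
    haveI : (RingHom.ker (φ.comp gP)).IsMaximal := RingHom.ker_isMaximal_of_surjective _ (fun y => by
      obtain ⟨e, rfl⟩ := hφs y
      obtain ⟨z, rfl⟩ := hgs e
      exact ⟨algebraMap _ BP z, congrArg φ (hgP z)⟩)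
    intro z
    rw [← IsLocalRing.eq_maximalIdeal this, RingHom.mem_ker]
    rfl
  obtain ⟨y, hy⟩ : ∃ y : Fin (maximalIdeal BP).spanFinrank → BP, Ideal.span (Set.range y) = maximalIdeal BP := by
    obtain ⟨s, hs, hspan⟩ := Submodule.FG.exists_span_finset_card_eq_spanFinrank
      (maximalIdeal BP).fg_of_isNoetherianRing
    let e : Fin (maximalIdeal BP).spanFinrank ≃ s := (finCongr hs.symm).trans s.equivFin.symm
    refine ⟨fun i => (e i : BP), Eq.trans ?_ hspan⟩
    rw [show (fun i => (e i : BP)) = Subtype.val ∘ e from rfl, Set.range_comp, e.surjective.range_eq,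
      Set.image_univ, Subtype.range_coe]
  have hfst : ∀ i, ∃ a : m, Ideal.Quotient.mk (m ^ 2) (a : A) = (gP (y i)).fst := fun i => by
    obtain ⟨a, ha⟩ := Ideal.Quotient.mk_surjective (gP (y i)).fst
    refine ⟨⟨a, ?_⟩, ha⟩
    rw [← residue_eq_zero_iff]
    have := (hmax (y i)).2 (hy.le (Ideal.subset_span ⟨i, rfl⟩))
    change π ((gP (y i)).fst) = 0 at this
    rw [← ha] at this
    exact this
  choose a ha using hfst
  let v : Fin (maximalIdeal BP).spanFinrank → CotangentSpace A × K :=
    fun i => (m.toCotangent (a i), (gP (y i)).snd)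
  have hspan : Submodule.span K (Set.range v) = ⊤ := by
    rw [eq_top_iff]
    rintro ⟨t, β⟩ -
    obtain ⟨t, rfl⟩ := m.toCotangent_surjective t
    obtain ⟨z, hz⟩ := hgs (SqExt.mk (Ideal.Quotient.mk (m ^ 2) (t : A)) β)
    have hzmem : algebraMap _ BP z ∈ maximalIdeal BP := by
      rw [← hmax, hgP, hz]
      show π (Ideal.Quotient.mk (m ^ 2) (t : A)) = 0
      exact (residue_eq_zero_iff _).2 t.2
    rw [← hy, Ideal.span, Submodule.mem_span_range_iff_exists_fun] at hzmem
    obtain ⟨r, hr⟩ := hzmem
    choose c hc using fun i => Ideal.Quotient.mk_surjective (gP (r i)).fst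
    have key : SqExt.mk (Ideal.Quotient.mk (m ^ 2) (t : A)) β = ∑ i, gP (r i) * gP (y i) := by
      rw [← hz, ← hgP, ← hr, map_sum]
      simp only [smul_eq_mul, map_mul]
    rw [Submodule.mem_span_range_iff_exists_fun]
    refine ⟨fun i => residue A (c i), ?_⟩
    let sndHom : E →+ K := AddMonoidHom.mk' SqExt.snd fun _ _ => rfl
    have hs := congrArg sndHom key
    have hf := congrArg SqExt.fstHom key
    rw [map_sum] at hs hf
    refine Prod.ext ?_ ?_
    · simp only [v, Prod.fst_sum, Prod.smul_fst]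
      have h1 : m.toCotangent t = m.toCotangent (∑ i, c i • a i) := by
        rw [Ideal.toCotangent_eq, ← Ideal.Quotient.eq]
        rw [AddSubmonoidClass.coe_finsetSum, map_sum]
        refine hf.trans (Finset.sum_congr rfl fun i _ => ?_)
        show (gP (r i) * gP (y i)).fst = Ideal.Quotient.mk (m ^ 2) (c i * (a i : A))
        rw [SqExt.fst_mul, map_mul, hc, ha]
      rw [h1, map_sum]
      refine Finset.sum_congr rfl fun i _ => ?_
      rw [map_smul]
      exact algebraMap_smul K (c i) (m.toCotangent (a i))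
    · simp only [v, Prod.snd_sum, Prod.smul_snd]
      refine Eq.trans ?_ hs.symm
      refine Finset.sum_congr rfl fun i _ => ?_
      show residue A (c i) * (gP (y i)).snd = (gP (r i) * gP (y i)).snd
      rw [SqExt.snd_mul, ← ha, ← hc]
      show _ = π (Ideal.Quotient.mk (m ^ 2) (c i)) * _ + π (Ideal.Quotient.mk (m ^ 2) (a i : A)) * _
      rw [show π (Ideal.Quotient.mk (m ^ 2) (a i : A)) = 0 from (residue_eq_zero_iff _).2 (a i).2,
        zero_mul, add_zero]
      rfl
  have hcard := finrank_range_le_card (R := K) v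
  rw [Set.finrank, hspan, finrank_top] at hcard
  have hdim : ((maximalIdeal BP).spanFinrank : WithBot ℕ∞) ≤ (maximalIdeal A).spanFinrank := by
    rw [IsRegularLocalRing.spanFinrank_maximalIdeal (R := BP),
      IsRegularLocalRing.spanFinrank_maximalIdeal (R := A), IsLocalization.AtPrime.ringKrullDim_eq_height P BP]
    refine (Ideal.height_le_ringKrullDim_of_ne_top (Ideal.IsMaximal.ne_top inferInstance)).trans ?_
    rw [← ringKrullDim_eq_of_ringEquiv (Algebra.TensorProduct.comm k A k').toRingEquiv]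
    haveI : Module.Finite k k' := (monic_X_pow_sub_C x hp.out.ne_zero).finite_adjoinRoot
    exact GrothLib.Dim.ringKrullDim_le_of_isIntegral A (A ⊗[k] k')
  rw [Nat.cast_le] at hdim
  rw [Module.finrank_prod, Module.finrank_self, ← spanFinrank_maximalIdeal_eq_finrank_cotangentSpace,
    Fintype.card_fin] at hcard
  omega

end GrothLib.AdicFSLoc
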