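import Groth.Agent.Lib.AdicFSLoc.FlatFibre
import Groth.Agent.S4573
import Mathlib.RingTheory.TensorProduct.Quotient

/-!
# Flat local algebras with geometrically regular closed fibre are formally smooth
-/

set_option autoImplicit false
set_option linter.style.haveILetI false
universe u

open TensorProduct IsLocalRing

namespace GrothLib.AdicFSLoc

/-- A flat local algebra whose closed fibre stays regular over finite extensions of the residue field is
formally smooth for the adic topologies. -/
theorem isFormallySmoothAdic_of_regular_fibre {A B : Type u} [CommRing A] [IsLocalRing A] [CommRing B]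
    [IsLocalRing B] [IsNoetherianRing B] [Algebra A B] [IsLocalHom (algebraMap A B)] [Module.Flat A B]
    (H : ∀ (L : Type u) [Field L] [Algebra (A ⧸ maximalIdeal A) L] [Algebra A L]
      [IsScalarTower A (A ⧸ maximalIdeal A) L] [Module.Finite (A ⧸ maximalIdeal A) L], IsRegularRing (L ⊗[A] B)) :
    EGA41.IsFormallySmoothAdic A (maximalIdeal A) B (maximalIdeal B) := by
  refine isFormallySmoothAdic_of_flat _ ?_
  letI := Ideal.Quotient.field (maximalIdeal A)
  let I := (maximalIdeal A).map (algebraMap A B)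
  have hI : I ≤ maximalIdeal B := ((local_hom_TFAE (algebraMap A B)).out 0 2).1 ‹_›
  have hne : I ≠ ⊤ := fun h => (maximalIdeal.isMaximal B).ne_top (top_le_iff.1 (h ▸ hI))
  haveI : Nontrivial (B ⧸ I) := Ideal.Quotient.nontrivial_iff.2 hne
  haveI : IsLocalRing (B ⧸ I) := IsLocalRing.of_surjective' _ Ideal.Quotient.mk_surjective
  have hmax : (maximalIdeal B).map (Ideal.Quotient.mk I) = maximalIdeal (B ⧸ I) :=
    IsLocalRing.eq_maximalIdeal (Ideal.IsMaximal.map_of_surjective_of_ker_le Ideal.Quotient.mk_surjective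
      (by rw [Ideal.mk_ker]; exact hI))
  rw [hmax]
  obtain ⟨e, he⟩ := ExpChar.exists (A ⧸ maximalIdeal A)
  refine (Groth.Agent.S4573.result e).2 fun L _ _ hfin _ => ?_
  haveI := hfin
  letI : Algebra A L := ((algebraMap (A ⧸ maximalIdeal A) L).comp (Ideal.Quotient.mk _)).toAlgebra
  haveI : IsScalarTower A (A ⧸ maximalIdeal A) L := IsScalarTower.of_algebraMap_eq fun _ => rfl
  haveI := H L
  let e1 : (B ⧸ I) ≃ₐ[A] (A ⧸ maximalIdeal A) ⊗[A] B :=
    ((Algebra.TensorProduct.quotIdealMapEquivTensorQuot B (maximalIdeal A)).restrictScalars A).trans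
      (Algebra.TensorProduct.comm A B (A ⧸ maximalIdeal A))
  let e2 : (B ⧸ I) ≃ₐ[A ⧸ maximalIdeal A] (A ⧸ maximalIdeal A) ⊗[A] B :=
    AlgEquiv.ofRingEquiv (f := e1.toRingEquiv) fun c => by
      obtain ⟨a, rfl⟩ := Ideal.Quotient.mk_surjective c
      rw [← Ideal.Quotient.algebraMap_eq, ← IsScalarTower.algebraMap_apply, ← IsScalarTower.algebraMap_apply]
      exact e1.commutes a
  haveI : IsRegularRing (L ⊗[A ⧸ maximalIdeal A] ((A ⧸ maximalIdeal A) ⊗[A] B)) :=
    IsRegularRing.of_ringEquiv (R := L ⊗[A] B)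
      (Algebra.TensorProduct.cancelBaseChange A (A ⧸ maximalIdeal A) L L B).symm.toRingEquiv
  exact IsRegularRing.of_ringEquiv (R := L ⊗[A ⧸ maximalIdeal A] ((A ⧸ maximalIdeal A) ⊗[A] B))
    (Algebra.TensorProduct.congr (AlgEquiv.refl (R := A ⧸ maximalIdeal A) (A₁ := L)) e2.symm).toRingEquiv

end GrothLib.AdicFSLoc
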