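import Groth.Agent.Lib.AdicFS.Quotient
import Groth.Agent.Lib.NilFree.Basic
import Mathlib.RingTheory.Filtration
import Mathlib.LinearAlgebra.Basis.VectorSpace
import Mathlib.RingTheory.Flat.Stability
import Mathlib.Algebra.Module.Torsion.Basic

/-!
# Flat local algebras with formally smooth closed fibre are formally smooth

A flat algebra over a local Noetherian ring is formally projective for the adic topologies.
-/

set_option autoImplicit false
set_option linter.style.haveILetI false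
universe u

open TensorProduct IsLocalRing

namespace GrothLib.AdicFSLoc

/-- A flat module over a ring with a nilpotent maximal ideal is free. -/
theorem free_of_flat_of_nilpotent {R M : Type u} [CommRing R] [AddCommGroup M] [Module R M] [Module.Flat R M]
    (J : Ideal R) [J.IsMaximal] (hJ : IsNilpotent J) : Module.Free R M := by
  classical
  letI := Ideal.Quotient.field J
  obtain ⟨ι, v, b, hv, hspan⟩ := GrothLib.NilFree.exists_basisLift (M := M) J hJ
  refine Module.Free.of_basis (Module.Basis.mk (v := v) ?_ hspan.ge)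
  refine GrothLib.NilFree.linearIndependent_of_flat J hJ v hspan
    (fun i => ((b.coord i).restrictScalars R).comp (TensorProduct.mk R (R ⧸ J) M 1)) fun i l => ?_
  show b.coord i ((1 : R ⧸ J) ⊗ₜ[R] v l) = _
  rw [hv, Module.Basis.coord_apply, Module.Basis.repr_self, Finsupp.single_apply]

variable {A B : Type u} [CommRing A] [IsLocalRing A] [CommRing B] [Algebra A B]

/-- Lifting linear maps from a flat algebra, ignoring the topology. -/
theorem exists_linear_lift [Module.Flat A B] (n : ℕ) {P Q : Type u} [AddCommGroup P] [Module A P] [AddCommGroup Q]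
    [Module A Q] (hP : ∀ a ∈ maximalIdeal A ^ n, ∀ y : P, a • y = 0)
    (hQ : ∀ a ∈ maximalIdeal A ^ n, ∀ y : Q, a • y = 0) (f : P →ₗ[A] Q) (hf : Function.Surjective f)
    (v : B →ₗ[A] Q) : ∃ w : B →ₗ[A] P, f ∘ₗ w = v := by
  let N := maximalIdeal A ^ (n + 1)
  have hle : N ≤ maximalIdeal A ^ n := Ideal.pow_le_pow_right (Nat.le_succ n)
  have hPt : Module.IsTorsionBySet A P N := fun y a => hP a (hle a.2) y
  have hQt : Module.IsTorsionBySet A Q N := fun y a => hQ a (hle a.2) y
  letI := hPt.module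
  letI := hQt.module
  haveI : IsScalarTower A (A ⧸ N) P := hPt.isScalarTower
  haveI : IsScalarTower A (A ⧸ N) Q := hQt.isScalarTower
  let M := (A ⧸ N) ⊗[A] B
  haveI : Module.Flat (A ⧸ N) M := inferInstance
  haveI : ((maximalIdeal A).map (Ideal.Quotient.mk N)).IsMaximal :=
    Ideal.IsMaximal.map_of_surjective_of_ker_le Ideal.Quotient.mk_surjective (by
      rw [Ideal.mk_ker]; exact Ideal.pow_le_self n.succ_ne_zero)
  haveI : Module.Free (A ⧸ N) M := free_of_flat_of_nilpotent ((maximalIdeal A).map (Ideal.Quotient.mk N))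
    ⟨n + 1, by rw [← Ideal.map_pow, Ideal.map_quotient_self, Ideal.zero_eq_bot]⟩
  let f' : P →ₗ[A ⧸ N] Q :=
    { toFun := f
      map_add' := f.map_add
      map_smul' := fun c y => by
        obtain ⟨c, rfl⟩ := Ideal.Quotient.mk_surjective c
        rw [RingHom.id_apply, ← Ideal.Quotient.algebraMap_eq, algebraMap_smul, algebraMap_smul, map_smul] }
  obtain ⟨w', hw'⟩ := Module.projective_lifting_property f' (v.liftBaseChange (A ⧸ N)) hf
  refine ⟨(w'.restrictScalars A).comp (TensorProduct.mk A (A ⧸ N) B 1), LinearMap.ext fun b => ?_⟩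
  show f (w' (1 ⊗ₜ b)) = v b
  rw [show f (w' (1 ⊗ₜ b)) = v.liftBaseChange (A ⧸ N) (1 ⊗ₜ b) from LinearMap.congr_fun hw' (1 ⊗ₜ b),
    LinearMap.liftBaseChange_tmul, one_smul]

/-- The step along a kernel killed by the maximal ideal. -/
theorem exists_continuous_lift_step [IsNoetherianRing B] [Module.Flat A B] (𝔟 : Ideal B) (n : ℕ) {P Q : Type u}
    [AddCommGroup P] [Module A P] [AddCommGroup Q]
    [Module A Q] (hP : ∀ a ∈ maximalIdeal A ^ n, ∀ y : P, a • y = 0)
    (hQ : ∀ a ∈ maximalIdeal A ^ n, ∀ y : Q, a • y = 0) (f : P →ₗ[A] Q) (hf : Function.Surjective f)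
    (hker : ∀ a ∈ maximalIdeal A, ∀ y, f y = 0 → a • y = 0)
    (v : B →ₗ[A] Q) (hv : ∃ m : ℕ, ∀ x ∈ 𝔟 ^ m, v x = 0) :
    ∃ w : B →ₗ[A] P, (∃ m : ℕ, ∀ x ∈ 𝔟 ^ m, w x = 0) ∧ f ∘ₗ w = v := by
  classical
  obtain ⟨w0, hw0⟩ := exists_linear_lift n hP hQ f hf v
  obtain ⟨m, hm⟩ := hv
  let 𝔪 := maximalIdeal A
  let M : Ideal B := 𝔪.map (algebraMap A B)
  obtain ⟨c, hc⟩ := Ideal.exists_pow_inf_eq_pow_smul (M := B) 𝔟 M
  let j := m + c
  have hzero : ∀ z ∈ 𝔟 ^ m * M, w0 z = 0 := by
    intro z hz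
    refine Submodule.mul_induction_on hz (fun x hx y hy => ?_) fun a b ha hb => by rw [map_add, ha, hb, add_zero]
    have hy' : y ∈ Ideal.span ((algebraMap A B) '' 𝔪) := hy
    clear hy hz
    revert x
    induction hy' using Submodule.span_induction with
    | mem y hy =>
        obtain ⟨a, ha, rfl⟩ := hy
        intro x hx
        rw [mul_comm, ← Algebra.smul_def, map_smul]
        refine hker a ha _ ?_
        rw [← hm x hx]
        exact LinearMap.congr_fun hw0 x
    | zero => intro x _; rw [mul_zero, map_zero]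
    | add y y' _ _ hy hy' => intro x hx; rw [mul_add, map_add, hy x hx, hy' x hx, add_zero]
    | smul b y _ hy =>
        intro x hx
        rw [smul_eq_mul, ← mul_assoc, hy (x * b) (Ideal.mul_mem_right _ _ hx)]
  have hwd : ∀ x ∈ 𝔟 ^ j, x ∈ 𝔪 • (⊤ : Submodule A B) → w0 x = 0 := fun x hx hx' => by
    refine hzero x ?_
    rw [Ideal.smul_top_eq_map, Submodule.restrictScalars_mem] at hx'
    have h1 := hc j (Nat.le_add_left c m)
    simp only [Ideal.smul_eq_mul, Ideal.mul_top, show j - c = m from Nat.add_sub_cancel m c] at h1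
    have h2 : x ∈ 𝔟 ^ j ⊓ M := ⟨hx, hx'⟩
    rw [h1] at h2
    exact Ideal.mul_mono_right inf_le_right h2
  -- linear algebra over the residue field
  let L : Submodule A P := LinearMap.ker f
  have hLt : Module.IsTorsionBySet A L 𝔪 := fun y a => Subtype.ext (hker a a.2 y y.2)
  letI := hLt.module
  haveI : IsScalarTower A (A ⧸ 𝔪) L := hLt.isScalarTower
  letI := Ideal.Quotient.field 𝔪
  let π := (𝔪 • (⊤ : Submodule A B)).mkQ
  let U : Submodule (A ⧸ 𝔪) (B ⧸ 𝔪 • (⊤ : Submodule A B)) :=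
    { carrier := π '' (𝔟 ^ j : Ideal B)
      add_mem' := by
        rintro _ _ ⟨x, hx, rfl⟩ ⟨y, hy, rfl⟩
        exact ⟨x + y, add_mem hx hy, map_add _ _ _⟩
      zero_mem' := ⟨0, zero_mem _, map_zero _⟩
      smul_mem' := by
        rintro a _ ⟨x, hx, rfl⟩
        obtain ⟨a, rfl⟩ := Ideal.Quotient.mk_surjective a
        exact ⟨a • x, Submodule.smul_of_tower_mem _ a hx, by rw [map_smul]; rfl⟩ }
  have hpre : ∀ u : U, ∃ x ∈ 𝔟 ^ j, π x = u := fun u => u.2
  choose pre hpre1 hpre2 using hpre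
  have hL : ∀ x ∈ 𝔟 ^ j, w0 x ∈ L := fun x hx => by
    rw [LinearMap.mem_ker]
    exact (LinearMap.congr_fun hw0 x).trans (hm x (Ideal.pow_le_pow_right (Nat.le_add_right m c) hx))
  let g0 : U → L := fun u => ⟨w0 (pre u), hL _ (hpre1 u)⟩
  have hg0 : ∀ (u : U) (x : B), x ∈ 𝔟 ^ j → π x = u → (g0 u : P) = w0 x := fun u x hx he => by
    rw [eq_comm, ← sub_eq_zero, ← map_sub]
    refine hwd _ (sub_mem hx (hpre1 u)) ((Submodule.Quotient.eq _).1 ?_)
    exact he.trans (hpre2 u).symm
  let g : U →ₗ[A ⧸ 𝔪] L :=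
    { toFun := g0
      map_add' := fun u u' => Subtype.ext (by
        rw [hg0 (u + u') (pre u + pre u') (add_mem (hpre1 u) (hpre1 u'))
          (by rw [map_add, hpre2, hpre2]; rfl), map_add]
        rfl)
      map_smul' := fun a u => by
        obtain ⟨a, rfl⟩ := Ideal.Quotient.mk_surjective a
        refine Subtype.ext ?_
        rw [hg0 (Ideal.Quotient.mk 𝔪 a • u) (a • pre u) (Submodule.smul_of_tower_mem _ a (hpre1 u))
          (by rw [map_smul, hpre2]; rfl), map_smul]
        rfl }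
  obtain ⟨h, hh⟩ := LinearMap.exists_extend g
  refine ⟨w0 - L.subtype ∘ₗ (h.restrictScalars A) ∘ₗ π, ⟨j, fun x hx => ?_⟩, ?_⟩
  · show w0 x - (h (π x) : P) = 0
    have h1 : h (π x) = g ⟨π x, x, hx, rfl⟩ := LinearMap.congr_fun hh ⟨π x, x, hx, rfl⟩
    rw [h1, show ((g ⟨π x, x, hx, rfl⟩ : L) : P) = w0 x from hg0 _ x hx rfl, sub_self]
  · refine LinearMap.ext fun b => ?_
    show f (w0 b - (h (π b) : P)) = v b
    rw [map_sub, (h (π b)).2, sub_zero]
    exact LinearMap.congr_fun hw0 b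

/-- A flat algebra over a local ring is formally projective. -/
theorem formallyProjective [IsNoetherianRing B] [Module.Flat A B] (𝔟 : Ideal B) (n : ℕ) (P Q : Type u)
    [AddCommGroup P] [Module A P] [AddCommGroup Q] [Module A Q] (hP : ∀ a ∈ maximalIdeal A ^ n, ∀ y : P, a • y = 0)
    (hQ : ∀ a ∈ maximalIdeal A ^ n, ∀ y : Q, a • y = 0) (f : P →ₗ[A] Q) (hf : Function.Surjective f)
    (v : B →ₗ[A] Q) (hv : ∃ m : ℕ, ∀ x ∈ 𝔟 ^ m, v x = 0) :
    ∃ w : B →ₗ[A] P, (∃ m : ℕ, ∀ x ∈ 𝔟 ^ m, w x = 0) ∧ f ∘ₗ w = v := by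
  suffices key : ∀ (t : ℕ) (P : Type u) [AddCommGroup P] [Module A P], (∀ a ∈ maximalIdeal A ^ n, ∀ y : P, a • y = 0) →
      ∀ f : P →ₗ[A] Q, Function.Surjective f → (∀ a ∈ maximalIdeal A ^ t, ∀ y, f y = 0 → a • y = 0) →
        ∃ w : B →ₗ[A] P, (∃ m : ℕ, ∀ x ∈ 𝔟 ^ m, w x = 0) ∧ f ∘ₗ w = v from
    key n P hP f hf fun a ha y _ => hP a ha y
  intro t
  induction t with
  | zero =>
    intro P _ _ _ f hf hker
    have hinj : Function.Injective f := (injective_iff_map_eq_zero f).2 fun y hy => by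
      have := hker 1 (by simp) y hy
      rwa [one_smul] at this
    let e := LinearEquiv.ofBijective f ⟨hinj, hf⟩
    obtain ⟨m, hm⟩ := hv
    refine ⟨e.symm.toLinearMap ∘ₗ v, ⟨m, fun x hx => ?_⟩, LinearMap.ext fun b => e.apply_symm_apply _⟩
    show e.symm (v x) = 0
    rw [hm x hx, map_zero]
  | succ t ih =>
    intro P _ _ hP f hf hker
    let K : Submodule A P := (maximalIdeal A ^ t) • LinearMap.ker f
    have hK : K ≤ LinearMap.ker f := Submodule.smul_le_right
    let f' : P ⧸ K →ₗ[A] Q := K.liftQ f hK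
    have hP' : ∀ a ∈ maximalIdeal A ^ n, ∀ y : P ⧸ K, a • y = 0 := fun a ha y => by
      obtain ⟨y, rfl⟩ := K.mkQ_surjective y
      rw [← map_smul, hP a ha, map_zero]
    obtain ⟨w', hw', hw'f⟩ := ih (P ⧸ K) hP' f' (fun q => by
        obtain ⟨y, rfl⟩ := hf q; exact ⟨K.mkQ y, rfl⟩) fun a ha y hy => by
      obtain ⟨y, rfl⟩ := K.mkQ_surjective y
      rw [← map_smul, Submodule.mkQ_apply, Submodule.Quotient.mk_eq_zero]
      exact Submodule.smul_mem_smul ha hy
    obtain ⟨w, hw, hwf⟩ := exists_continuous_lift_step 𝔟 n hP hP' K.mkQ K.mkQ_surjective (fun a ha y hy => by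
      have hy' : y ∈ K := (Submodule.Quotient.mk_eq_zero _).1 hy
      clear hy
      refine Submodule.smul_induction_on hy' (fun b hb z hz => ?_) fun y z hy hz => by rw [smul_add, hy, hz, add_zero]
      rw [smul_smul]
      exact hker (a * b) (by rw [pow_succ']; exact Ideal.mul_mem_mul ha hb) z hz) w' hw'
    refine ⟨w, hw, LinearMap.ext fun b => ?_⟩
    show f (w b) = v b
    rw [← LinearMap.congr_fun hw'f b, LinearMap.comp_apply, ← LinearMap.congr_fun hwf b]
    rfl

/-- A flat algebra with formally smooth closed fibre is formally smooth. -/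
theorem isFormallySmoothAdic_of_flat [IsNoetherianRing B] [Module.Flat A B] (𝔟 : Ideal B)
    (h : CAlgX.IsAdicFormallySmooth (A ⧸ maximalIdeal A) (B ⧸ (maximalIdeal A).map (algebraMap A B))
      (𝔟.map (Ideal.Quotient.mk ((maximalIdeal A).map (algebraMap A B))))) :
    EGA41.IsFormallySmoothAdic A (maximalIdeal A) B 𝔟 :=
  GrothLib.AdicFS.isFormallySmoothAdic_of_formallyProjective (formallyProjective 𝔟)
    ((GrothLib.AdicFS.isAdicFormallySmooth_iff _).1 h)

end GrothLib.AdicFSLoc
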